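import Cfsg.Agent.H474.PSq.Tool
import Cfsg.Agent.H843.IMC.Co2B

/-!
# `Co2`: degrees divisible by `p²` (helper474)
-/

set_option autoImplicit false

namespace Cfsg.Agent.H474.PSq

open Cfsg Cfsg.Agent.H33 Cfsg.Agent.H843.IMC Cfsg.Agent.H672.SporIM

universe u

/-- **`Co2` has, for each odd prime `p` whose square divides the order, an irreducible character of degree
divisible by `p²`.** -/
theorem sq_co2 {S : Type u} [Group S] [Finite S] (h : Cfsg.Spor.IsoCo2 S) (_hs : IsSimpleGroup S) {p : ℕ}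
    [hp : Fact p.Prime] (hp2 : p ≠ 2) (hd : p ^ 2 ∣ Nat.card S) : IM (p ^ 2) S := by
  obtain ⟨e⟩ := h
  rw [Nat.card_congr e.toEquiv, Co2A.card_co2] at hd
  refine IM.of_equiv e ?_
  have hr : ¬ p ^ 2 ∣ 42305421312000 / (2 ^ 18 * 3 ^ 6 * 5 ^ 3) := by
    intro h
    have h1 : p ^ 2 ∣ 1771 := by simpa using h
    have h2 : p ^ 2 ≤ 1771 := Nat.le_of_dvd (by norm_num) h1
    have h3 : p ≤ 42 := by nlinarith
    have h4 := hp.out.two_le
    interval_cases p <;> revert h1 <;> decide
  rcases prime_cases (a := 18) (b := 6) (r := 3) hp.out hp2 Nat.prime_three Nat.prime_five (by norm_num) hr hd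
    with rfl | rfl
  · exact im_of_charDegree Co2B.hasDeg_2277 (by norm_num)
  · exact im_of_charDegree Co2A.hasDeg_2024_275.2 (by norm_num)

end Cfsg.Agent.H474.PSq
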