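import Cfsg.Agent.H474.PSq.Tool
import Cfsg.Agent.H843.IMC.Co3B

/-!
# `Co3`: degrees divisible by `p²` (helper474)
-/

set_option autoImplicit false

namespace Cfsg.Agent.H474.PSq

open Cfsg Cfsg.Agent.H33 Cfsg.Agent.H843.IMC Cfsg.Agent.H843.IMC.Co3B Cfsg.Agent.H672.SporIM

universe u

theorem sq3_Gw : IM (3 ^ 2) Gw := by
  have hp : Fact (Nat.Prime 3) := ⟨Nat.prime_three⟩
  obtain ⟨θ, hθ⟩ := hasDeg_27
  have hcard : Nat.card ↥(Subgroup.zpowers x) = 3 := by rw [Nat.card_zpowers, orderOf_x]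
  have hle : Subgroup.zpowers x ≤ KK := by
    rw [KK_eq, Subgroup.zpowers_le, Subgroup.mem_centralizer_singleton_iff]
  refine im_sq_of_le_factorization (n := (Subgroup.zpowers x).index) ?_ Subgroup.index_ne_zero_of_finite
    (exists_of_local (Subgroup.zpowers x) (IsPGroup.of_card (n := 1) (by rw [hcard, pow_one])) θ ?_ ?_)
  · have h1 := Subgroup.card_mul_index (Subgroup.zpowers x)
    rw [hcard, card_Gw] at h1
    refine ⟨18361728000, ?_⟩
    norm_num
    omega
  · have h1 : (Nat.card ↥KK).factorization 3 ≤ 4 := by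
      by_contra hcon
      exact not_dvd_KK ((Nat.prime_three.pow_dvd_iff_le_factorization Nat.card_pos.ne').2 (by omega))
    have h2 : (charDegree (θ : ↥KK → ℂ)).factorization 3 = 3 := by
      rw [hθ, show (27 : ℕ) = 3 ^ 3 by norm_num, Nat.prime_three.factorization_pow]
      simp
    have h3 : Subgroup.zpowers x ⊓ KK = Subgroup.zpowers x := inf_eq_left.2 hle
    rw [h3, hcard, Nat.prime_three.factorization_self, h2]
    exact h1
  · rintro g hg ⟨k, hk⟩
    refine (le_sup_right : KK ≤ _) ?_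
    rw [KK_eq, Subgroup.mem_centralizer_singleton_iff]
    have h1 : g * x * g⁻¹ ∈ Subgroup.zpowers x :=
      (Subgroup.mem_normalizer_iff.1 hg x).1 (Subgroup.mem_zpowers x)
    have hx3 : x ^ 3 = 1 := by rw [← orderOf_x, pow_orderOf_eq_one]
    have h2 : g * x * g⁻¹ = x ∨ g * x * g⁻¹ = x⁻¹ := by
      classical
      rw [mem_zpowers_iff_mem_range_orderOf, orderOf_x] at h1
      obtain ⟨n, hn, h1⟩ := Finset.mem_image.1 h1
      rw [Finset.mem_range] at hn
      interval_cases n
      · exfalso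
        have h3 : x = 1 := by
          have h4 : g * x * g⁻¹ = 1 := by rw [← h1, pow_zero]
          have h5 : x = g⁻¹ * (g * x * g⁻¹) * g := by group
          rw [h5, h4]
          group
        have h4 := orderOf_x
        rw [h3, orderOf_one] at h4
        norm_num at h4
      · left
        rw [← h1, pow_one]
      · right
        rw [← h1, eq_inv_iff_mul_eq_one, ← pow_succ, hx3]
    rcases h2 with h2 | h2
    · calc g * x = g * x * g⁻¹ * g := by group
        _ = x * g := by rw [h2]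
    · have h3 : g ^ 2 * x = x * g ^ 2 := by
        have h4 : g * x⁻¹ * g⁻¹ = x := by
          calc g * x⁻¹ * g⁻¹ = (g * x * g⁻¹)⁻¹ := by group
            _ = x := by rw [h2, inv_inv]
        have h5 : g ^ 2 * x * (g ^ 2)⁻¹ = x := by
          calc g ^ 2 * x * (g ^ 2)⁻¹ = g * (g * x * g⁻¹) * g⁻¹ := by rw [pow_two]; group
            _ = x := by rw [h2, h4]
        calc g ^ 2 * x = g ^ 2 * x * (g ^ 2)⁻¹ * g ^ 2 := by group
          _ = x * g ^ 2 := by rw [h5]
      have hodd : Odd (3 ^ k) := Odd.pow (by decide)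
      obtain ⟨m, hm⟩ := hodd
      have h4 : g = (g ^ 2) ^ (m + 1) := by
        rw [← pow_mul, show 2 * (m + 1) = (2 * m + 1) + 1 by ring, ← hm, pow_succ, ← hk, pow_orderOf_eq_one, one_mul]
      have h5 : Commute ((g ^ 2) ^ (m + 1)) x := Commute.pow_left h3 _
      rw [← h4] at h5
      exact h5

theorem sq3_co3 : IM (3 ^ 2) Spor.Co3 := by
  obtain ⟨f⟩ := nonempty_equiv
  exact IM.of_equiv f sq3_Gw

/-- **`Co3` has, for each odd prime `p` whose square divides the order, an irreducible character of degree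
divisible by `p²`.** -/
theorem sq_co3 {S : Type u} [Group S] [Finite S] (h : Cfsg.Spor.IsoCo3 S) (_hs : IsSimpleGroup S) {p : ℕ}
    [hp : Fact p.Prime] (hp2 : p ≠ 2) (hd : p ^ 2 ∣ Nat.card S) : IM (p ^ 2) S := by
  obtain ⟨e⟩ := h
  rw [Nat.card_congr e.toEquiv, Co3A.card_co3] at hd
  refine IM.of_equiv e ?_
  have hr : ¬ p ^ 2 ∣ 495766656000 / (2 ^ 10 * 3 ^ 7 * 5 ^ 3) := by
    intro h
    have h1 : p ^ 2 ∣ 1771 := by simpa using h
    have h2 : p ^ 2 ≤ 1771 := Nat.le_of_dvd (by norm_num) h1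
    have h3 : p ≤ 42 := by nlinarith
    have h4 := hp.out.two_le
    interval_cases p <;> revert h1 <;> decide
  rcases prime_cases (a := 10) (b := 7) (r := 3) hp.out hp2 Nat.prime_three Nat.prime_five (by norm_num) hr hd
    with rfl | rfl
  · exact sq3_co3
  · exact im_of_charDegree Co3A.hasDeg_275 (by norm_num)

end Cfsg.Agent.H474.PSq
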