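import Cfsg.Agent.H474.PSq.Tool
import Cfsg.Agent.H33.RD
import Cfsg.Agent.H999.IMON
import Cfsg.Agent.H210.On7.Loc

/-!
# `O'N`: degrees divisible by `p²` (helper474)
-/

set_option autoImplicit false
set_option maxRecDepth 100000

namespace Cfsg.Agent.H474.PSq

open Subgroup Cfsg Cfsg.Agent.H33
open Cfsg.Spor (ON)
open Cfsg.Agent.H999.ONThreeHyp Cfsg.Agent.H999.ONIMThree
open Cfsg.Agent.ONType.OddCent (XX LL)
open Cfsg.Agent.H665.NoPQ (HasDZ)
open Cfsg.Agent.Blocks.Basic

universe u

theorem mem_of_not_dvd_index {H : Type*} [Group H] [Finite H] (K : Subgroup H) [K.Normal] {p : ℕ} (hp : p.Prime)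
    (h : ¬ p ∣ K.index) {g : H} {k : ℕ} (hg : orderOf g = p ^ k) : g ∈ K := by
  rw [← QuotientGroup.eq_one_iff, ← orderOf_eq_one_iff]
  have h1 : orderOf (QuotientGroup.mk g : H ⧸ K) ∣ p ^ k := hg ▸ orderOf_map_dvd (QuotientGroup.mk' K) g
  have h2 : orderOf (QuotientGroup.mk g : H ⧸ K) ∣ K.index := by
    rw [Subgroup.index_eq_card]
    exact orderOf_dvd_natCard _
  have h3 : Nat.Coprime (p ^ k) K.index := Nat.Coprime.pow_left _ ((Nat.Prime.coprime_iff_not_dvd hp).2 h)
  exact Nat.dvd_one.1 (h3 ▸ Nat.dvd_gcd h1 h2)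

theorem sq3_on [Fact (Nat.Prime 3)] : IM (3 ^ 2) ON := by
  have hfin := Cfsg.Agent.KFacts.ON.Cent.finite_ON
  have hn : (P.subgroupOf (XX P)).Normal := hyp.normal
  have hn' : (P.subgroupOf (centralizer (P : Set ON))).Normal := hyp.normal
  have hs := hyp.simple_LL
  have h1 : HasDZ 3 (LL P) := hasDZ_360 hyp.card_LL
  obtain ⟨e, -⟩ := hyp.exists_equiv
  have e1 : LL P ≃* commutator (XX P) :=
    ((commutator (XX P)).equivMapOfInjective _ (XX P).subtype_injective).symm
  have h2 : HasDZ 3 (centralizer (P : Set ON) ⧸ P.subgroupOf (centralizer (P : Set ON))) :=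
    Cfsg.Agent.H713.HasDZ.mulEquiv (e1.trans e) h1
  have hPC : P ≤ centralizer (P : Set ON) := hyp.P_le
  have h3P : (Nat.card P).factorization 3 = 2 := by
    rw [card_P, show (9 : ℕ) = 3 ^ 2 by norm_num, Nat.Prime.factorization_pow Nat.prime_three,
      Finsupp.single_eq_same]
  obtain ⟨χ, hχ⟩ := h2
  have hq : Nat.card (centralizer (P : Set ON) ⧸ P.subgroupOf (centralizer (P : Set ON))) = 360 := by
    have h4 := Subgroup.card_eq_card_quotient_mul_card_subgroup (P.subgroupOf (centralizer (P : Set ON)))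
    rw [card_centralizer, Nat.card_congr (subgroupOfEquivOfLe hPC).toEquiv, card_P] at h4
    omega
  have hq3 : (360 : ℕ).factorization 3 = 2 := by
    rw [show (360 : ℕ) = 3 ^ 2 * 40 by norm_num, Nat.factorization_mul (by norm_num) (by norm_num),
      Nat.Prime.factorization_pow Nat.prime_three, Finsupp.add_apply, Finsupp.single_eq_same,
      Nat.factorization_eq_zero_of_not_dvd (by norm_num : ¬ 3 ∣ 40)]
  rw [hq, hq3] at hχ
  have hc3 : (3240 : ℕ).factorization 3 = 4 := by
    rw [show (3240 : ℕ) = 3 ^ 4 * 40 by norm_num, Nat.factorization_mul (by norm_num) (by norm_num),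
      Nat.Prime.factorization_pow Nat.prime_three, Finsupp.add_apply, Finsupp.single_eq_same,
      Nat.factorization_eq_zero_of_not_dvd (by norm_num : ¬ 3 ∣ 40)]
  refine im_sq_of_le_factorization (n := P.index) ?_ Subgroup.index_ne_zero_of_finite
    (exists_of_local P (IsPGroup.of_card (n := 2) (by rw [card_P]; norm_num))
      ⟨(χ : ↥(centralizer (P : Set ON)) ⧸ P.subgroupOf (centralizer (P : Set ON)) → ℂ) ∘ (QuotientGroup.mk' (P.subgroupOf (centralizer (P : Set ON)))),
      Cfsg.Agent.Characters.Core.isIrr_comp _ (QuotientGroup.mk'_surjective _) χ.2⟩ ?_ ?_)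
  · have h4 := P.card_mul_index
    rw [card_P, card_ON] at h4
    refine ⟨5689080320, ?_⟩
    norm_num
    omega
  · have h5 : charDegree ((χ : ↥(centralizer (P : Set ON)) ⧸ P.subgroupOf (centralizer (P : Set ON)) → ℂ) ∘ (QuotientGroup.mk' (P.subgroupOf (centralizer (P : Set ON))))) =
        charDegree (χ : ↥(centralizer (P : Set ON)) ⧸ P.subgroupOf (centralizer (P : Set ON)) → ℂ) := by
      unfold charDegree
      rw [Function.comp_apply, map_one]
    show _ ≤ (charDegree ((χ : ↥(centralizer (P : Set ON)) ⧸ P.subgroupOf (centralizer (P : Set ON)) → ℂ) ∘ (QuotientGroup.mk' (P.subgroupOf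
      (centralizer (P : Set ON)))))).factorization 3 + _
    rw [h5, hχ, inf_eq_left.2 hPC, h3P, card_centralizer, hc3]
  · rintro g hg ⟨k, hk⟩
    apply Subgroup.mem_sup_right
    have hle : centralizer (P : Set ON) ≤ normalizer (P : Set ON) := centralizer_le_normalizer _
    have hnn : ((centralizer (P : Set ON)).subgroupOf (normalizer (P : Set ON))).Normal := inferInstance
    have h6 := mem_of_not_dvd_index ((centralizer (P : Set ON)).subgroupOf (normalizer (P : Set ON))) Nat.prime_three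
      not_dvd (g := ⟨g, hg⟩) (k := k) (by rw [Subgroup.orderOf_mk]; exact hk)
    exact mem_subgroupOf.1 h6

/-- **`O'N` has, for each odd prime `p` whose square divides the order, an irreducible character of degree
divisible by `p²`.** -/
theorem sq_on {S : Type u} [Group S] [Finite S] (h : Cfsg.Spor.IsoON S) (_hs : IsSimpleGroup S) {p : ℕ}
    [hp : Fact p.Prime] (hp2 : p ≠ 2) (hd : p ^ 2 ∣ Nat.card S) : IM (p ^ 2) S := by
  obtain ⟨e⟩ := h
  rw [Nat.card_congr e.toEquiv, card_ON] at hd
  refine IM.of_equiv e ?_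
  have hr : ¬ p ^ 2 ∣ 460815505920 / (2 ^ 9 * 3 ^ 4 * 7 ^ 3) := by
    intro h
    have h1 : p ^ 2 ∣ 32395 := by simpa using h
    have h2 : p ^ 2 ≤ 32395 := Nat.le_of_dvd (by norm_num) h1
    have h3 : p ≤ 179 := by nlinarith
    have h4 := hp.out.two_le
    interval_cases p <;> revert h1 <;> decide
  rcases prime_cases (a := 9) (b := 4) (r := 3) hp.out hp2 Nat.prime_three (by norm_num : Nat.Prime 7) (by norm_num)
    hr hd with rfl | rfl
  · exact sq3_on
  · exact im_of_charDegree Cfsg.Agent.H210.On7.exists_charDegree (by norm_num)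

end Cfsg.Agent.H474.PSq
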