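import Cfsg.Agent.H33.IM

/-!
# `p²` divides a degree: tools (helper474)
-/

set_option autoImplicit false

namespace Cfsg.Agent.H474.PSq

open Cfsg Cfsg.Agent.H33

/-- A character whose degree has the `p`-part at least the `p`-part of an index divisible by `p²`. -/
theorem im_sq_of_le_factorization {G : Type*} [Group G] {p : ℕ} [hp : Fact p.Prime] [Finite G] {n : ℕ}
    (hn : p ^ 2 ∣ n) (hn0 : n ≠ 0)
    (h : ∃ χ : IrrCharacter G, n.factorization p ≤ (charDegree (χ : G → ℂ)).factorization p) :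
    IM (p ^ 2) G := by
  obtain ⟨χ, hχ⟩ := h
  refine ⟨χ, ?_⟩
  have h2 : charDegree (χ : G → ℂ) ≠ 0 := (Cfsg.Agent.Blocks.Basic.charDegree_pos χ.2).ne'
  exact (hp.out.pow_dvd_iff_le_factorization h2).2 (((hp.out.pow_dvd_iff_le_factorization hn0).1 hn).trans hχ)

/-- An irreducible character of given degree. -/
theorem im_of_apply {G : Type*} [Group G] {n m : ℕ} (h : ∃ χ : IrrCharacter G, (χ : G → ℂ) 1 = (n : ℕ))
    (hm : m ∣ n) : IM m G := by
  obtain ⟨χ, hχ⟩ := h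
  exact IM.of_apply_one χ.2 hχ hm

/-- An irreducible character of given degree. -/
theorem im_of_charDegree {G : Type*} [Group G] {n m : ℕ} (h : ∃ χ : IrrCharacter G, charDegree (χ : G → ℂ) = n)
    (hm : m ∣ n) : IM m G := by
  obtain ⟨χ, hχ⟩ := h
  exact ⟨χ, by rwa [hχ]⟩

/-- The primes whose square divides the order. -/
theorem prime_cases {p a b r : ℕ} (hp : p.Prime) (hp2 : p ≠ 2) {n q₁ q₂ : ℕ} (h1 : q₁.Prime) (h2 : q₂.Prime)
    (hn : n = 2 ^ a * q₁ ^ b * q₂ ^ r * (n / (2 ^ a * q₁ ^ b * q₂ ^ r)))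
    (hsq : ¬ p ^ 2 ∣ n / (2 ^ a * q₁ ^ b * q₂ ^ r)) (hd : p ^ 2 ∣ n) : p = q₁ ∨ p = q₂ := by
  by_contra hcon
  push Not at hcon
  have c : ∀ q : ℕ, q.Prime → p ≠ q → ∀ k, Nat.Coprime (p ^ 2) (q ^ k) := fun q hq hne k =>
    Nat.Coprime.pow 2 k ((Nat.coprime_primes hp hq).2 hne)
  rw [hn] at hd
  refine hsq (Nat.Coprime.dvd_of_dvd_mul_left ?_ hd)
  exact Nat.Coprime.mul_right (Nat.Coprime.mul_right (c 2 Nat.prime_two hp2 a) (c q₁ h1 hcon.1 b)) (c q₂ h2 hcon.2 r)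

end Cfsg.Agent.H474.PSq
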